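import Cfsg.Agent.H118.K547.TSer
import Cfsg.Agent.H907.Four.PslDiag
import Cfsg.Agent.H541.PRegFus
import Cfsg.Agent.H742.TwoC
import Cfsg.Agent.Nodes.RGDTypeA
import Cfsg.Agent.Lib.FieldAutCard
import Cfsg.Agent.S0249

/-!
# S4547, `PSL_n(q)`, `q ≥ 4` even, `n ≥ 4`: `GInv3 τ` for every `τ` with `TwoPow τ` (helper680, QE8)
-/

set_option autoImplicit false
set_option linter.unusedSectionVars false

namespace Cfsg.Agent.H680.K547.PslGraph

open Matrix CoxeterSystem Cfsg.Agent.ChevalleyStructure.CoxeterGeom Cfsg.Agent.Tits.Roots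
open Cfsg.Agent.Tits.Core Cfsg.Agent.Nodes.Bruhat
open Cfsg.Agent.Nodes.Reps Cfsg.Agent.Nodes.BNOf Cfsg.Agent.Nodes.RGDLib Cfsg.Agent.Nodes.RootsA
open Cfsg.Agent.Nodes.RGDTypeA (T X ns Mono rgd_psl G1_psl_eq_top mem_T)
open Cfsg.Agent.LieRecognition.BNCox (cA)
open Cfsg Cfsg.Agent.H821.K547 Cfsg.Agent.H307.QE Cfsg.Agent.H118.K547
open Cfsg.Agent.ClassicalGeometry.AutPSL.Root Cfsg.Agent.ClassicalGeometry.AutPSL.Auto
open Cfsg.Agent.H907.Four (dg coe_dg dl dll dl_zero dl_one dl_other prod_dl prod_dll dl_swap dl_map exists_aut isConj_aut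
  pr_dg_ne_one not_conj_dll dg_congr)

universe u

section field

variable {F : Type u} [Field F] [Fintype F]

theorem ne_inv (h2 : (2 : F) = 0) {l : F} (hl0 : l ≠ 0) (hl1 : l ≠ 1) : l ≠ l⁻¹ := by
  intro h
  have h1 : l * l = 1 := by
    nth_rewrite 2 [h]
    exact mul_inv_cancel₀ hl0
  have h3 : (l - 1) * (l - 1) = 0 := by linear_combination h1 - (l - 1) * h2
  apply hl1
  linear_combination mul_self_eq_zero.1 h3

/-- a field automorphism of odd degree whose power of `2`-power exponent maps every element to itself or its inverse -/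
theorem eq_one_of_pow (hodd : Odd (Nat.card (F ≃+* F))) {σ : F ≃+* F} {k : ℕ}
    (h : ∀ l : F, l ≠ 0 → l ≠ 1 → (σ ^ 2 ^ k) l = l ∨ (σ ^ 2 ^ k) l = l⁻¹) : σ = 1 := by
  have h1 : (σ ^ 2 ^ k) ^ 2 = 1 := by
    ext l
    rw [pow_two]
    change (σ ^ 2 ^ k) ((σ ^ 2 ^ k) l) = l
    by_cases h0 : l = 0
    · rw [h0, map_zero, map_zero]
    by_cases h1 : l = 1
    · rw [h1, map_one, map_one]
    rcases h l h0 h1 with h2 | h2
    · rw [h2, h2]
    · rw [h2, map_inv₀, h2, inv_inv]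
  have h2 : σ ^ 2 ^ (k + 1) = 1 := by rw [pow_succ, pow_mul]; exact h1
  have h3 : orderOf σ ∣ 2 ^ (k + 1) := orderOf_dvd_of_pow_eq_one h2
  have h4 : orderOf σ ∣ Nat.card (F ≃+* F) := orderOf_dvd_natCard σ
  have h5 : Nat.Coprime (2 ^ (k + 1)) (Nat.card (F ≃+* F)) := Nat.Coprime.pow_left _ (Nat.coprime_two_left.2 hodd)
  exact orderOf_eq_one_iff.1 (Nat.eq_one_of_dvd_coprimes h5 h3 h4)

/-- an element of order three -/
theorem exists_three {f : ℕ} (hF : Fintype.card F = 2 ^ f) (hf : Even f) (hf0 : f ≠ 0) :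
    ∃ l : F, l ≠ 0 ∧ l ≠ 1 ∧ ∀ σ : F ≃+* F, σ l = l ∨ σ l = l⁻¹ := by
  classical
  have hd : 3 ∣ Nat.card Fˣ := by
    rw [Nat.card_eq_fintype_card, Fintype.card_units, hF]
    obtain ⟨k, rfl⟩ := hf
    have h1 : 2 ^ (k + k) = 4 ^ k := by
      rw [← two_mul, pow_mul]
      norm_num
    rw [h1]
    simpa using Nat.sub_dvd_pow_sub_pow 4 1 k
  have : Fact (Nat.Prime 3) := ⟨by norm_num⟩
  obtain ⟨u, hu⟩ := exists_prime_orderOf_dvd_card' 3 hd
  have h3 : (u : F) ^ 3 = 1 := by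
    have h4 : u ^ 3 = 1 := by rw [← hu]; exact pow_orderOf_eq_one u
    rw [← Units.val_pow_eq_pow_val, h4, Units.val_one]
  have h1 : (u : F) ≠ 1 := by
    intro h
    have h4 : u = 1 := Units.ext h
    rw [h4, orderOf_one] at hu
    norm_num at hu
  have hq : (u : F) ^ 2 + u + 1 = 0 := by
    have h4 : ((u : F) - 1) * ((u : F) ^ 2 + u + 1) = 0 := by linear_combination h3
    exact (mul_eq_zero.1 h4).resolve_left (sub_ne_zero.2 h1)
  refine ⟨u, u.ne_zero, h1, fun σ => ?_⟩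
  have hm : (σ u) ^ 2 + σ u + 1 = 0 := by
    rw [← map_pow, ← map_add, ← map_one σ, ← map_add, hq, map_zero]
  have h5 : (σ u - u) * (σ u - (u : F) ^ 2) = 0 := by linear_combination hm - (σ u) * hq + h3
  rcases mul_eq_zero.1 h5 with h6 | h6
  · exact Or.inl (sub_eq_zero.1 h6)
  · right
    rw [sub_eq_zero.1 h6]
    apply eq_inv_of_mul_eq_one_left
    rw [← h3]
    ring

end field

section perm

variable {ι F : Type*} [Fintype ι] [DecidableEq ι] [Field F]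

theorem dl_swap_other {i0 i1 i2 i3 : ι} (h02 : i0 ≠ i2) (h03 : i0 ≠ i3) (h12 : i1 ≠ i2) (h13 : i1 ≠ i3) (l : F) (i : ι) :
    dl i0 i1 l (Equiv.swap i2 i3 i) = dl i0 i1 l i := by
  by_cases h2 : i = i2
  · subst h2
    rw [Equiv.swap_apply_left, dl_other h03.symm h13.symm, dl_other h02.symm h12.symm]
  · by_cases h3 : i = i3
    · subst h3
      rw [Equiv.swap_apply_right, dl_other h02.symm h12.symm, dl_other h03.symm h13.symm]
    · rw [Equiv.swap_apply_of_ne_of_ne h2 h3]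

theorem dll_perm {i0 i1 i2 i3 : ι} (h01 : i0 ≠ i1) (h02 : i0 ≠ i2) (h03 : i0 ≠ i3) (h12 : i1 ≠ i2) (h13 : i1 ≠ i3)
    (h23 : i2 ≠ i3) (l : F) (i : ι) :
    dll i0 i1 i2 i3 l ((Equiv.swap i0 i1 * Equiv.swap i2 i3) i) = (dll i0 i1 i2 i3 l i)⁻¹ := by
  unfold dll
  rw [Equiv.Perm.mul_apply, dl_swap h01, dl_swap_other h02 h03 h12 h13,
    dl_swap_other (i0 := i2) (i1 := i3) h02.symm h12.symm h03.symm h13.symm, dl_swap h23, mul_inv]

theorem dll_map (σ : F ≃+* F) (i0 i1 i2 i3 : ι) {l : F} (h : σ l = l ∨ σ l = l⁻¹) :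
    (∀ i, σ (dll i0 i1 i2 i3 l i) = dll i0 i1 i2 i3 l i) ∨ (∀ i, σ (dll i0 i1 i2 i3 l i) = (dll i0 i1 i2 i3 l i)⁻¹) := by
  rcases h with h | h
  · left
    intro i
    unfold dll
    rw [map_mul, dl_map, dl_map, h]
  · right
    intro i
    unfold dll
    rw [map_mul, dl_map, dl_map, h, mul_inv, Cfsg.Agent.H907.Four.dl_inv, Cfsg.Agent.H907.Four.dl_inv]

theorem dl_map' (σ : F ≃+* F) (i0 i1 : ι) {l : F} (h : σ l = l ∨ σ l = l⁻¹) :
    (∀ i, σ (dl i0 i1 l i) = dl i0 i1 l i) ∨ (∀ i, σ (dl i0 i1 l i) = (dl i0 i1 l i)⁻¹) := by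
  rcases h with h | h
  · left
    intro i
    rw [dl_map, h]
  · right
    intro i
    rw [dl_map, h, Cfsg.Agent.H907.Four.dl_inv]

end perm

section main

variable {n : ℕ} {F : Type} [Field F] [Fintype F]

theorem mono_eq_diagonal {ι : Type*} [Fintype ι] [DecidableEq ι] {g : SpecialLinearGroup ι F} (hg : Mono 1 g) :
    (g : Matrix ι ι F) = diagonal fun i => (g : Matrix ι ι F) i i := by
  ext i j
  rw [diagonal_apply]
  split_ifs with hij
  · rw [hij]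
  · by_contra h
    exact hij (hg i j h)

theorem T_comm : ∀ a ∈ (T (Fin (n + 1)) F).map (Cfsg.Agent.Nodes.RGDTypeA.pr n F),
    ∀ b ∈ (T (Fin (n + 1)) F).map (Cfsg.Agent.Nodes.RGDTypeA.pr n F), a * b = b * a := by
  rintro _ ⟨a, ha, rfl⟩ _ ⟨b, hb, rfl⟩
  rw [← map_mul, ← map_mul]
  congr 1
  apply Subtype.ext
  rw [Matrix.SpecialLinearGroup.coe_mul, Matrix.SpecialLinearGroup.coe_mul, mono_eq_diagonal (mem_T.1 ha),
    mono_eq_diagonal (mem_T.1 hb), diagonal_mul_diagonal, diagonal_mul_diagonal]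
  congr 1
  funext i
  exact mul_comm _ _

theorem dg_mem_T (d : Fin (n + 1) → F) (h : ∏ i, d i = 1) :
    pr (dg d h) ∈ (T (Fin (n + 1)) F).map (Cfsg.Agent.Nodes.RGDTypeA.pr n F) := by
  refine ⟨dg d h, mem_T.2 ?_, rfl⟩
  intro a b hab
  by_contra hne
  apply hab
  rw [coe_dg]
  exact diagonal_apply_ne _ hne

/-- the class of the diagonal element under the powers of an automorphism -/
theorem pow_class {N : ℕ} {β : MulAut (ProjectiveSpecialLinearGroup (Fin N) F)} {σ : F ≃+* F}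
    (hσ : ∀ (d : Fin N → F) (h : ∏ i, d i = 1) (π : Equiv.Perm (Fin N)) (_ : ∀ i, d (π i) = (d i)⁻¹)
      (h' : ∏ i, σ (d i) = 1), IsConj (pr (dg (fun i => σ (d i)) h')) (β (pr (dg d h))))
    {i0 i1 : Fin N} (h01 : i0 ≠ i1) {l : F} (hl0 : l ≠ 0) (m : ℕ) (h : ∏ i, dl i0 i1 ((σ ^ m) l) i = 1)
    (h' : ∏ i, dl i0 i1 l i = 1) :
    IsConj (pr (dg _ h)) ((β ^ m) (pr (dg _ h'))) := by
  induction m with
  | zero => exact IsConj.refl _
  | succ m ih =>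
    have h1 : (σ ^ m) l ≠ 0 := fun e => hl0 ((map_eq_zero (σ ^ m)).1 e)
    have h2 := ih (prod_dl h01 h1)
    have h3 : (β ^ (m + 1)) (pr (dg _ h')) = β ((β ^ m) (pr (dg _ h'))) := by
      rw [pow_succ']
      rfl
    rw [h3]
    have h4 : ∏ i, σ (dl i0 i1 ((σ ^ m) l) i) = 1 := by
      rw [← map_prod, prod_dl h01 h1, map_one]
    have h5 := hσ _ (prod_dl h01 h1) (Equiv.swap i0 i1) (dl_swap h01 _) h4
    have h6 : (fun i => σ (dl i0 i1 ((σ ^ m) l) i)) = dl i0 i1 ((σ ^ (m + 1)) l) := by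
      funext i
      rw [dl_map, pow_succ']
      rfl
    have h7 : IsConj (β (pr (dg _ (prod_dl h01 h1)))) (β ((β ^ m) (pr (dg _ h')))) := MonoidHom.map_isConj β.toMonoidHom h2
    rw [dg_congr h6 h4 h] at h5
    exact h5.trans h7

theorem gInv3 (hn : 3 ≤ n) {f : ℕ} (hf : 2 ≤ f) (hF : Fintype.card F = 2 ^ f)
    (τ : MulAut (ProjectiveSpecialLinearGroup (Fin (n + 1)) F)) (hτ : TwoPow τ) : GInv3 τ := by
  classical
  have hp : Fact (Nat.Prime 2) := ⟨Nat.prime_two⟩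
  have hc : CharP F 2 := charP_of_card_eq_prime_pow hF
  have h2 : (2 : F) = 0 := CharTwo.two_eq_zero
  have hW : Finite (cA n).Group := Cfsg.Agent.Nodes.RootsA.finite_W (cA n).toCoxeterSystem (isCartan n)
  have hfin : Finite (ProjectiveSpecialLinearGroup (Fin (n + 1)) F) := Quotient.finite _
  have R := rgd_psl (F := F) (p := 2) (cA n).toCoxeterSystem (isCartan n)
  have hG : GG (cA n).toCoxeterSystem (isCartan n) ((T (Fin (n + 1)) F).map (Cfsg.Agent.Nodes.RGDTypeA.pr n F))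
      (fun x => (X F x).map (Cfsg.Agent.Nodes.RGDTypeA.pr n F)) = ⊤ :=
    top_le_iff.1 (le_trans (G1_psl_eq_top (cA n).toCoxeterSystem (isCartan n)).symm.le le_sup_right)
  have hs : IsSimpleGroup (ProjectiveSpecialLinearGroup (Fin (n + 1)) F) := Cfsg.Agent.S0249.result (n + 1) (by omega)
  have hC : H601.OddDeg.TwoC (ProjectiveSpecialLinearGroup (Fin (n + 1)) F) := by
    exact Cfsg.Agent.H742.TwoC.twoC_charTwo (Or.inl ⟨F, inferInstance, inferInstance, hc, n + 1, by omega, by omega, ⟨MulEquiv.refl _⟩⟩)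
  obtain ⟨g, σp, hN⟩ := exists_nrm R hG hτ
  apply gInv3_conj g
  obtain ⟨β, hβ⟩ : ∃ β, β = MulAut.conj g * τ := ⟨_, rfl⟩
  rw [← hβ] at hN ⊢
  obtain ⟨σ, hσ⟩ := exists_aut (by omega) β
  have h01 : (⟨0, by omega⟩ : Fin (n + 1)) ≠ ⟨1, by omega⟩ := by simp
  have h02 : (⟨0, by omega⟩ : Fin (n + 1)) ≠ ⟨2, by omega⟩ := by simp
  have h03 : (⟨0, by omega⟩ : Fin (n + 1)) ≠ ⟨3, by omega⟩ := by simp
  have h12 : (⟨1, by omega⟩ : Fin (n + 1)) ≠ ⟨2, by omega⟩ := by simp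
  have h13 : (⟨1, by omega⟩ : Fin (n + 1)) ≠ ⟨3, by omega⟩ := by simp
  have h23 : (⟨2, by omega⟩ : Fin (n + 1)) ≠ ⟨3, by omega⟩ := by simp
  obtain ⟨l, hl0, hl1, hl⟩ : ∃ l : F, l ≠ 0 ∧ l ≠ 1 ∧ (σ l = l ∨ σ l = l⁻¹) := by
    rcases Nat.even_or_odd f with hf2 | hf2
    · obtain ⟨l, a, b, c⟩ := exists_three hF hf2 (by omega)
      exact ⟨l, a, b, c σ⟩
    · have hodd : Odd (Nat.card (F ≃+* F)) := by
        rw [Cfsg.Agent.Lib.FieldAutCard.card_ringAut (by omega) hF]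
        exact hf2
      obtain ⟨k, hk⟩ := hN.pow
      have hσ1 : σ = 1 := by
        refine eq_one_of_pow hodd (k := k) fun l hl0 hl1 => ?_
        have hm0 : (σ ^ 2 ^ k) l ≠ 0 := fun e => hl0 ((map_eq_zero (σ ^ 2 ^ k)).1 e)
        have hm1 : (σ ^ 2 ^ k) l ≠ 1 := fun e => hl1 ((map_eq_one_iff _ (σ ^ 2 ^ k).injective).1 e)
        have h5 := pow_class hσ h01 hl0 (2 ^ k) (prod_dl h01 hm0) (prod_dl h01 hl0)
        rw [hk] at h5
        exact Cfsg.Agent.H907.Four.eq_of_range h01 h02 h12 h2 hl0 hl1 hm0 hm1 h5.symm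
      obtain ⟨l, hl⟩ : ∃ l : F, l ∉ ({0, 1} : Finset F) := by
        by_contra hno
        push Not at hno
        have h6 : Fintype.card F ≤ ({0, 1} : Finset F).card := Finset.card_le_card (fun x _ => hno x)
        have h7 : ({0, 1} : Finset F).card ≤ 2 := Finset.card_le_two
        have h8 : 2 ^ 2 ≤ 2 ^ f := Nat.pow_le_pow_right (by norm_num) hf
        rw [hF] at h6
        omega
      simp only [Finset.mem_insert, Finset.mem_singleton, not_or] at hl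
      exact ⟨l, hl.1, hl.2, Or.inl (by rw [hσ1]; rfl)⟩
  have hli := ne_inv h2 hl0 hl1
  -- from conjugacy to `N`
  have hfus : ∀ (d : Fin (n + 1) → F) (h : ∏ i, d i = 1), IsConj (pr (dg d h)) (β (pr (dg d h))) →
      ∃ x ∈ Cfsg.Agent.Nodes.Reps.NN (cA n).toCoxeterSystem R.nsys, x * pr (dg d h) * x⁻¹ = β (pr (dg d h)) := by
    intro d h hcj
    obtain ⟨y, hy⟩ := isConj_iff.1 hcj
    have h3 : y * pr (dg d h) * y⁻¹ ∈ (T (Fin (n + 1)) F).map (Cfsg.Agent.Nodes.RGDTypeA.pr n F) := by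
      rw [hy]
      exact (hN.fixT _).2 (dg_mem_T d h)
    obtain ⟨x, hx, e⟩ := Cfsg.Agent.H541.PRegFus.fusion R T_comm (dg_mem_T d h) (by rw [hG]; exact Subgroup.mem_top y) h3
    exact ⟨x, hx, e.trans hy⟩
  refine gInv3_of_elts hN hG hC T_comm (dg_mem_T _ (prod_dl h01 hl0)) (dg_mem_T _ (prod_dll h01 h23 hl0)) ?_ ?_ ?_
    (hfus _ _ ?_) (hfus _ _ ?_)
  · refine pr_dg_ne_one (i := ⟨0, by omega⟩) (j := ⟨1, by omega⟩) ?_
    rw [dl_zero, dl_one h01]
    exact hli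
  · refine pr_dg_ne_one (i := ⟨0, by omega⟩) (j := ⟨1, by omega⟩) ?_
    unfold dll
    rw [dl_zero, dl_one h01, dl_other h02 h03, dl_other h12 h13, mul_one, mul_one]
    exact hli
  · intro x _ e
    exact not_conj_dll h01 h02 h03 h12 h13 h23 hl0 hli (isConj_iff.2 ⟨x, e⟩ : IsConj _ _).symm
  · exact isConj_aut (by omega) hσ (π := Equiv.swap _ _) (dl_swap h01 l) (dl_map' σ _ _ hl)
  · exact isConj_aut (by omega) hσ (π := Equiv.swap _ _ * Equiv.swap _ _) (dll_perm h01 h02 h03 h12 h13 h23 l)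
      (dll_map σ _ _ _ _ hl)

/-- the form of `EvenSmall.psl_swap` -/
theorem gInv3_nrm [CharP F 2] (hn : 3 ≤ n) (hF : 4 ≤ Fintype.card F)
    (β : MulAut (ProjectiveSpecialLinearGroup (Fin (n + 1)) F)) (hβ : ∃ k, β ^ 2 ^ k = 1) : GInv3 β := by
  obtain ⟨f, -, hf⟩ := FiniteField.card F 2
  have hf2 : 2 ≤ (f : ℕ) := by
    by_contra hlt
    have h1 : (f : ℕ) ≤ 1 := by omega
    have h2 : 2 ^ (f : ℕ) ≤ 2 ^ 1 := Nat.pow_le_pow_right (by norm_num) h1
    rw [← hf] at h2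
    omega
  obtain ⟨k, hk⟩ := hβ
  refine gInv3 hn hf2 hf β ⟨k, 1, fun x => ?_⟩
  rw [hk]
  simp

end main

end Cfsg.Agent.H680.K547.PslGraph
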