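import Cfsg.Agent.H805.K547.M23
import Cfsg.Agent.H569.K547.M24
import Cfsg.Agent.H687.FourK.MTwentyFour
import Cfsg.Agent.S2064
import Cfsg.Agent.H821.K547.Tools

/-!
# S4547, the row `M24` (helper680, task 5046)
-/

set_option autoImplicit false

namespace Cfsg.Agent.H680.K547.M24

open Cfsg Cfsg.Agent.H821.K547 Cfsg.Agent.H805.K547

universe u

/-- **The row of `M24`.** -/
theorem row {S : Type u} [Group S] (h : Cfsg.Spor.IsoM24 S) : Row S := by
  have h' := h
  obtain ⟨e⟩ := h'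
  have := Cfsg.Agent.H569.K547.finite_M24
  have hfin : Finite S := Finite.of_equiv _ e.symm.toEquiv
  exact ⟨Or.inl ⟨Cfsg.Agent.H687.FourK.MTwentyFour.good5 h, D3.congr e Cfsg.Agent.H569.K547.d3_m24⟩,
    fun τ _ hτ => absurd (isInn_of_equiv e Cfsg.Agent.S2064.result τ) hτ⟩

end Cfsg.Agent.H680.K547.M24
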